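import Groth.Agent.AlgEqDiag.OpenGraph
import Groth.Agent.AVRat.ConnChain
import Groth.Agent.SmoothCompl.Basic
import Groth.Agent.HQProj.Basic
import Groth.Agent.TwistOverVan.Basic
import Groth.Prelude.Def_ChowOps
import Mathlib.AlgebraicGeometry.AlgClosed.Basic

/-!
Zero-cycles of degree zero on connected proper schemes over an algebraically closed field are algebraically
trivial.
-/

set_option autoImplicit false
set_option backward.isDefEq.respectTransparency false
set_option backward.isDefEq.respectTransparency.types false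
set_option linter.style.haveILetI false
set_option maxHeartbeats 1000000

universe u

open CategoryTheory CategoryTheory.Limits AlgebraicGeometry TopologicalSpace

noncomputable section

namespace Groth.Agent.AlgEqDiag

variable {k : Type u} [Field k]

/-- Embeddings in `ProjSpace` give `IsProjectiveOver`. -/
theorem isProjectiveOver_of {Y : Scheme.{u}} (q : Y ⟶ Spec (CommRingCat.of k)) {n : ℕ}
    (i : Y ⟶ CohB1.ProjSpace n k) [IsClosedImmersion i] (hi : i ≫ CohB1.ProjSpace.toSpec n k = q) :
    Neron.IsProjectiveOver k (Over.mk q) := by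
  obtain ⟨e, he, -⟩ := PnSpec.exists_iso_twist n (CommRingCat.of k)
  refine ⟨n, i ≫ e.hom, ?_, ?_⟩
  · haveI : IsClosedImmersion e.hom := inferInstance
    exact MorphismProperty.comp_mem _ i e.hom ‹IsClosedImmersion i› this
  · show (i ≫ e.hom) ≫ _ = q
    rw [Category.assoc, he, hi]

variable [IsAlgClosed k] {X : Scheme.{u}} (p : X ⟶ Spec (CommRingCat.of k))

/-- The classes of rational points coincide. -/
theorem isAlgEquiv_of_points [DecidableEq ↥X] [LocallyOfFiniteType p] [IsSeparated p] [ConnectedSpace ↥X]
    (a b : Spec (CommRingCat.of k) ⟶ X) (ha : a ≫ p = 𝟙 _) (hb : b ≫ p = 𝟙 _) :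
    Function.locallyFinsuppWithin.single (a (IsLocalRing.closedPoint k)) (1 : ℤ) -
      Function.locallyFinsuppWithin.single (b (IsLocalRing.closedPoint k)) (1 : ℤ) ∈ AlgEqCyc.algTriv p := by
  classical
  let T : Over (Spec (CommRingCat.of k)) := Over.mk p
  haveI : LocallyOfFiniteType T.hom := ‹LocallyOfFiniteType p›
  haveI : ConnectedSpace T.left := ‹ConnectedSpace ↥X›
  let F : (AVDeg.one' k ⟶ T) → AlgebraicCycle X ℤ ⧸ AlgEqCyc.algTriv p := fun t =>
    QuotientAddGroup.mk (Function.locallyFinsuppWithin.single (t.left (IsLocalRing.closedPoint k)) (1 : ℤ))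
  have hF : AVRat.ConstOnCurves F := by
    intro D hD f d₀ d₁ hDs hDsep hDqc hDdim
    haveI := hD
    haveI : Smooth D.hom := hDs
    haveI : IsSeparated D.hom := hDsep
    haveI : QuasiCompact D.hom := hDqc
    haveI : LocallyOfFiniteType D.hom := inferInstance
    obtain ⟨Y, q, j, hj, hjq, hY, hq, hd, n, i, hi, hiq⟩ := SmoothCompl.exists_completion D.hom hDdim
    haveI := hj; haveI := hY; haveI := hi
    have hf : f.left ≫ p = j ≫ q := (Over.w f).trans hjq.symm
    refine QuotientAddGroup.eq_iff_sub_mem.2 ?_
    refine AddSubgroup.subset_closure ?_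
    exact isElemAlgTriv_ograph p q j f.left hq (isProjectiveOver_of q i hiq) hd hf d₀.left d₁.left
      (by rw [Category.assoc, hjq]; exact Over.w d₀) (by rw [Category.assoc, hjq]; exact Over.w d₁)
  exact QuotientAddGroup.eq_iff_sub_mem.1 (hF.eq (Over.homMk a ha) (Over.homMk b hb))

/-- Points of relative dimension zero are closed of degree one. -/
theorem closed_of_trdeg [LocallyOfFiniteType p] {δ : ↥X → ℤ} (hδ : Cyc.DeltaCompat p δ (fun _ => 0)) {x : X}
    (hx : δ x = 0) : IsClosed ({x} : Set X) ∧ p.residueDegree x = 1 := by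
  letI := (p.residueFieldMap x).hom.toAlgebra
  obtain ⟨n, hn, hn'⟩ := hδ x
  obtain rfl : n = 0 := by simp only at hn'; omega
  haveI : Subsingleton ↥(Spec (CommRingCat.of k)) := inferInstanceAs (Subsingleton (PrimeSpectrum k))
  let e := residueFieldIsoBase (𝟙 (Spec (CommRingCat.of k))) (p x) (isClosed_discrete _)
  haveI : IsAlgClosed ((Spec (CommRingCat.of k)).residueField (p x)) :=
    IsAlgClosed.of_ringEquiv k _ e.commRingCatIsoToRingEquiv.symm
  haveI : Algebra.IsAlgebraic ((Spec (CommRingCat.of k)).residueField (p x)) (X.residueField x) :=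
    trdeg_eq_zero_iff.1 (by simpa using hn)
  have hbij := IsAlgClosed.algebraMap_bijective_of_isIntegral
    (k := (Spec (CommRingCat.of k)).residueField (p x)) (K := X.residueField x)
  constructor
  · haveI : IsIso (p.residueFieldMap x) := (ConcreteCategory.isIso_iff_bijective _).2 hbij
    haveI : JacobsonSpace X := LocallyOfFiniteType.jacobsonSpace p
    refine isClosed_singleton_iff_locallyOfFiniteType.2 ?_
    haveI : LocallyOfFiniteType (X.fromSpecResidueField x ≫ p) := by
      rw [← Scheme.Hom.SpecMap_residueFieldMap_fromSpecResidueField]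
      haveI : IsClosedImmersion ((Spec (CommRingCat.of k)).fromSpecResidueField (p x)) :=
        isClosed_singleton_iff_isClosedImmersion.1 (isClosed_discrete _)
      infer_instance
    exact locallyOfFiniteType_of_comp (X.fromSpecResidueField x) p
  · exact (LinearEquiv.ofBijective (Algebra.linearMap ((Spec (CommRingCat.of k)).residueField (p x))
      (X.residueField x)) hbij).finrank_eq.symm.trans (Module.finrank_self _)

/-- Degree zero implies algebraically trivial. -/
theorem degZero [LocallyOfFiniteType p] [IsSeparated p] [QuasiCompact p] [ConnectedSpace ↥X] (δ : ↥X → ℤ)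
    (hδ : Cyc.DeltaCompat p δ (fun _ => 0)) (α : AlgebraicCycle X ℤ) (hα : α ∈ Cyc.Zk X δ 0)
    (hdeg : ChowOps.deg p δ α = 0) : AlgEqCyc.IsAlgEquivZero p α := by
  classical
  haveI : CompactSpace X := QuasiCompact.compactSpace_of_compactSpace p
  have hfin : (Function.support (α : X → ℤ)).Finite := by
    have := α.locallyFiniteSupport.finite_inter_support_of_isCompact (W := Set.univ) isCompact_univ
    simpa using this
  set s := hfin.toFinset with hs
  have hmem : ∀ x ∈ s, δ x = 0 := fun x hx => by
    by_contra h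
    exact (hfin.mem_toFinset.1 hx) (hα x h)
  haveI : Subsingleton ↥(Spec (CommRingCat.of k)) := inferInstanceAs (Subsingleton (PrimeSpectrum k))
  have hsum : ∑ x ∈ s, α x = 0 := by
    have h1 : ∀ x ∈ s, α x = α x * ((AlgebraicCycle.mapCoeff p δ (fun _ => (0 : ℤ)) x : ℕ) : ℤ) := fun x hx => by
      rw [AlgebraicCycle.mapCoeff, if_pos (hmem x hx), (closed_of_trdeg p hδ (hmem x hx)).2, Nat.cast_one, mul_one]
    refine (Finset.sum_congr rfl h1).trans (Eq.trans ?_ hdeg)
    refine ((finsum_mem_eq_sum_of_inter_support_eq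
      (fun x => α x * ((AlgebraicCycle.mapCoeff p δ (fun _ => (0 : ℤ)) x : ℕ) : ℤ))
      (s := p ⁻¹' {IsLocalRing.closedPoint k}) (t := s) (Set.ext fun x => ?_)).trans rfl).symm
    simp only [Set.mem_inter_iff, Set.mem_preimage, Set.mem_singleton_iff, hs, Set.Finite.coe_toFinset,
      Function.mem_support]
    constructor
    · rintro ⟨-, h⟩
      exact ⟨fun h0 => h (by rw [h0, zero_mul]), h⟩
    · rintro ⟨-, h⟩
      exact ⟨Subsingleton.elim _ _, h⟩
  have hα' : α = ∑ x ∈ s, α x • Function.locallyFinsuppWithin.single x (1 : ℤ) := by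
    ext y
    simp only [Function.locallyFinsuppWithin.coe_sum, Function.locallyFinsuppWithin.coe_zsmul, Finset.sum_apply,
      Pi.smul_apply, Function.locallyFinsuppWithin.single_apply, smul_eq_mul, mul_ite, mul_one, mul_zero,
      Finset.sum_ite_eq, hs, Set.Finite.mem_toFinset, Function.mem_support]
    split_ifs with h
    · rfl
    · exact not_not.1 h
  rcases s.eq_empty_or_nonempty with hempty | ⟨x₀, hx₀⟩
  · rw [hempty, Finset.sum_empty] at hα'
    show α ∈ AlgEqCyc.algTriv p
    rw [hα']
    exact zero_mem _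
  have hα'' : α = ∑ x ∈ s, α x • (Function.locallyFinsuppWithin.single x (1 : ℤ) -
      Function.locallyFinsuppWithin.single x₀ (1 : ℤ)) := by
    simp only [smul_sub, Finset.sum_sub_distrib, ← Finset.sum_smul, hsum, zero_smul, sub_zero]
    exact hα'
  show α ∈ AlgEqCyc.algTriv p
  rw [hα'']
  refine sum_mem fun x hx => zsmul_mem ?_ _
  let pt : ∀ y ∈ s, Spec (CommRingCat.of k) ⟶ X := fun y hy =>
    pointOfClosedPoint p y (closed_of_trdeg p hδ (hmem y hy)).1
  have h := isAlgEquiv_of_points p (pt x hx) (pt x₀ hx₀) (pointOfClosedPoint_comp p _ _)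
    (pointOfClosedPoint_comp p _ _)
  simp only [pt, pointOfClosedPoint_apply] at h
  exact h

end Groth.Agent.AlgEqDiag
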