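import Groth.Agent.AlgEqDiag.Main
import Mathlib.AlgebraicGeometry.AlgClosed.Basic

/-!
Algebraic equivalence of rational points on a connected union of smooth projective curves.
-/

set_option autoImplicit false
set_option backward.isDefEq.respectTransparency false
set_option backward.isDefEq.respectTransparency.types false
set_option linter.style.haveILetI false

universe u

open CategoryTheory CategoryTheory.Limits AlgebraicGeometry TopologicalSpace

noncomputable section

namespace Groth.Agent.AlgEqDiag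

variable {k : Type u} [Field k] {X C : Scheme.{u}} (p : X ⟶ Spec (CommRingCat.of k))
  (q : C ⟶ Spec (CommRingCat.of k)) (ι : C ⟶ X) (hq : ι ≫ p = q)

/-- The graph of `ι`. -/
def graph : C ⟶ pullback p q := pullback.lift ι (𝟙 C) (by rw [hq, Category.id_comp])

theorem isClosedImmersion_graph [IsClosedImmersion ι] [IsSeparated q] : IsClosedImmersion (graph p q ι hq) := by
  have e : graph p q ι hq = pullback.diagonal q ≫ pullback.map q q p q ι (𝟙 C) (𝟙 _)
      (by rw [Category.comp_id, hq]) (by simp) := by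
    apply pullback.hom_ext <;> simp [graph]
  have hsq : IsPullback (pullback.map q q p q ι (𝟙 C) (𝟙 _) (by rw [Category.comp_id, hq]) (by simp))
      (pullback.fst q q) (pullback.fst p q) ι := by
    refine IsPullback.of_right ?_ (by simp) (IsPullback.of_hasPullback p q).flip
    simpa [hq] using (IsPullback.of_hasPullback q q).flip
  haveI : IsClosedImmersion (pullback.map q q p q ι (𝟙 C) (𝟙 _) (by rw [Category.comp_id, hq]) (by simp)) :=
    MorphismProperty.of_isPullback (P := @IsClosedImmersion) hsq.flip inferInstance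
  rw [e]
  infer_instance

/-- The graph family has the member `[ι t]` over the rational point `t`. -/
theorem fibreFun_graph [IsClosedImmersion ι] [IsSeparated q] [IrreducibleSpace C] [DecidableEq ↥X]
    [DecidableEq ↥(pullback p q)]
    (t : Spec (CommRingCat.of k) ⟶ C) (ht : t ≫ q = 𝟙 _) (x : X) :
    AlgEqCyc.fibreFun p q
      (Function.locallyFinsuppWithin.single (graph p q ι hq (genericPoint C)) (1 : ℤ)) t ht x =
      if x = ι (t (IsLocalRing.closedPoint k)) then 1 else 0 := by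
  set η := genericPoint C
  haveI := isClosedImmersion_graph p q ι hq
  set Γ' := graph p q ι hq with hΓ
  have hfst : Γ' ≫ pullback.fst p q = ι := pullback.lift_fst _ _ _
  have hsnd : Γ' ≫ pullback.snd p q = 𝟙 C := pullback.lift_snd _ _ _
  have hmem : Γ' η ⤳ AlgEqCyc.slice p q t ht x ↔ x = ι (t (IsLocalRing.closedPoint k)) := by
    constructor
    · intro h
      obtain ⟨c, hc⟩ := h.mem_closed Γ'.isClosedEmbedding.isClosed_range ⟨η, rfl⟩
      have h1 : x = ι c := by
        have := congrArg (pullback.fst p q) hc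
        simp only [← Scheme.Hom.comp_apply, AlgEqCyc.slice, hfst, pullback.lift_fst] at this
        simpa using this.symm
      have h2 : c = t (p x) := by
        have := congrArg (pullback.snd p q) hc
        simp only [← Scheme.Hom.comp_apply, AlgEqCyc.slice, hsnd, pullback.lift_snd] at this
        simpa using this
      rw [h1, h2]
      exact congrArg ι (congrArg t (Subsingleton.elim (α := PrimeSpectrum k) _ _))
    · rintro rfl
      have e : (t ≫ ι) ≫ AlgEqCyc.slice p q t ht = t ≫ Γ' := by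
        apply pullback.hom_ext
        · simp [AlgEqCyc.slice, hfst]
        · simp [AlgEqCyc.slice, hsnd, reassoc_of% hq, reassoc_of% ht]
      rw [← Scheme.Hom.comp_apply, ← Scheme.Hom.comp_apply, ← Category.assoc, e, Scheme.Hom.comp_apply]
      exact (genericPoint_specializes _).map Γ'.continuous
  have hzero : ∀ w, (Function.locallyFinsuppWithin.single (Γ' η) (1 : ℤ)) w ≠ 0 → w = Γ' η := fun w hw => by
    by_contra hne
    exact hw (by rw [Function.locallyFinsuppWithin.single_apply, if_neg hne])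
  unfold AlgEqCyc.fibreFun
  split_ifs with hx
  · have hv : Γ' η ⤳ AlgEqCyc.slice p q t ht x := hmem.2 hx
    rw [finsum_eq_single _ ⟨Γ' η, by rw [Function.locallyFinsuppWithin.single_apply, if_pos rfl]; exact one_ne_zero, hv⟩
      (fun w hw => absurd (Subtype.ext (hzero _ w.2.1)) hw)]
    have hone : (Function.locallyFinsuppWithin.single (Γ' η) (1 : ℤ)) (Γ' η) = 1 := by
      rw [Function.locallyFinsuppWithin.single_apply, if_pos rfl]
    obtain ⟨c, hc⟩ := hv.mem_closed Γ'.isClosedEmbedding.isClosed_range ⟨η, rfl⟩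
    have key : ∀ (v : ↥(pullback p q)) (h : Γ' η ⤳ v), v = Γ' c →
        AlgEqCyc.fibreMult (pullback.snd p q) v (Γ' η) h = 1 := by
      rintro v h rfl
      exact fibreMult_section (pullback.snd p q) Γ' hsnd η c (genericPoint_specializes c) h
    exact (congrArg₂ (· * ·) hone (congrArg (Nat.cast (R := ℤ)) (key _ hv hc.symm))).trans (by simp)
  · haveI : IsEmpty {w : ↥(pullback p q) //
        (Function.locallyFinsuppWithin.single (Γ' η) (1 : ℤ)) w ≠ 0 ∧ w ⤳ AlgEqCyc.slice p q t ht x} :=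
      ⟨fun w => hx (hmem.1 (hzero _ w.2.1 ▸ w.2.2))⟩
    exact finsum_of_isEmpty _

/-- Two rational points of a smooth projective curve in `X` give an elementary trivial cycle. -/
theorem isElemAlgTriv_graph [IsClosedImmersion ι] [IsIntegral C] [IsSeparated q] [DecidableEq ↥X] (hs : Smooth q)
    (hp : Neron.IsProjectiveOver k (Over.mk q)) (hd : topologicalKrullDim ↥C = 1) (hq : ι ≫ p = q)
    (P₁ P₂ : Spec (CommRingCat.of k) ⟶ C) (h₁ : P₁ ≫ q = 𝟙 _) (h₂ : P₂ ≫ q = 𝟙 _) :
    AlgEqCyc.IsElemAlgTriv p (Function.locallyFinsuppWithin.single (ι (P₁ (IsLocalRing.closedPoint k))) (1 : ℤ) -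
      Function.locallyFinsuppWithin.single (ι (P₂ (IsLocalRing.closedPoint k))) (1 : ℤ)) := by
  classical
  refine ⟨C, q, hs, hp, inferInstance, hd,
    Function.locallyFinsuppWithin.single (graph p q ι hq (genericPoint C)) (1 : ℤ), fun w hw => ?_,
    P₁, P₂, h₁, h₂, fun x => ?_⟩
  · have : w = graph p q ι hq (genericPoint C) := by
      by_contra hne
      exact hw (by rw [Function.locallyFinsuppWithin.single_apply, if_neg hne])
    subst this
    rw [← Scheme.Hom.comp_apply, show graph p q ι hq ≫ pullback.snd p q = 𝟙 C from pullback.lift_snd _ _ _]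
    exact genericPoint_closure _
  · rw [fibreFun_graph p q ι hq P₁ h₁ x, fibreFun_graph p q ι hq P₂ h₂ x]
    show (Function.locallyFinsuppWithin.single (ι (P₁ (IsLocalRing.closedPoint k))) (1 : ℤ)) x -
      (Function.locallyFinsuppWithin.single (ι (P₂ (IsLocalRing.closedPoint k))) (1 : ℤ)) x = _
    refine congrArg₂ (· - ·) ?_ ?_ <;>
      exact Function.locallyFinsuppWithin.single_apply.trans (if_congr Iff.rfl rfl rfl)

/-- A rational point lying on a closed subscheme comes from it. -/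
theorem exists_lift [IsClosedImmersion ι] (hq : ι ≫ p = q) (P : Spec (CommRingCat.of k) ⟶ X) (hP : P ≫ p = 𝟙 _)
    (h : P (IsLocalRing.closedPoint k) ∈ Set.range ι) :
    ∃ P' : Spec (CommRingCat.of k) ⟶ C, P' ≫ ι = P ∧ P' ≫ q = 𝟙 _ := by
  obtain ⟨c, hc⟩ := h
  obtain ⟨z, -⟩ := Scheme.Pullback.exists_preimage_pullback (IsLocalRing.closedPoint k) c hc.symm (f := P) (g := ι)
  let j := pullback.fst P ι
  haveI : IsClosedImmersion j := MorphismProperty.pullback_fst _ _ inferInstance
  haveI : IsReduced (Spec (CommRingCat.of k)) := inferInstance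
  haveI : Subsingleton ↥(Spec (CommRingCat.of k)) := inferInstanceAs (Subsingleton (PrimeSpectrum k))
  haveI : Surjective j := ⟨fun y => ⟨z, Subsingleton.elim _ _⟩⟩
  haveI : IsIso j := isIso_of_isClosedImmersion_of_surjective j
  refine ⟨inv j ≫ pullback.snd P ι, ?_, ?_⟩
  · rw [Category.assoc, ← pullback.condition, IsIso.inv_hom_id_assoc]
  · rw [← hq, Category.assoc, ← reassoc_of% pullback.condition (f := P) (g := ι), IsIso.inv_hom_id_assoc, hP]

/-- Rational points on a connected union of curves are algebraically equivalent. -/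
theorem isAlgEquiv_of_connected [IsAlgClosed k] {n : ℕ} [DecidableEq ↥X] (p : X ⟶ Spec (CommRingCat.of k))
    (C : Fin n → Scheme.{u}) (q : (i : Fin n) → (C i ⟶ Spec (CommRingCat.of k))) (ι : (i : Fin n) → (C i ⟶ X))
    [∀ i, IsClosedImmersion (ι i)] (hq : ∀ i, ι i ≫ p = q i) (hs : ∀ i, Smooth (q i))
    (hpr : ∀ i, Neron.IsProjectiveOver k (Over.mk (q i))) [∀ i, IsIntegral (C i)] [∀ i, IsSeparated (q i)]
    (hd : ∀ i, topologicalKrullDim ↥(C i) = 1) (hconn : _root_.IsConnected (⋃ i, Set.range ⇑(ι i)))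
    (P Q : Spec (CommRingCat.of k) ⟶ X) (hP : P ≫ p = 𝟙 _) (hQ : Q ≫ p = 𝟙 _)
    (hPC : P (IsLocalRing.closedPoint k) ∈ ⋃ i, Set.range ⇑(ι i))
    (hQC : Q (IsLocalRing.closedPoint k) ∈ ⋃ i, Set.range ⇑(ι i)) :
    AlgEqCyc.IsAlgEquiv p (Function.locallyFinsuppWithin.single (P (IsLocalRing.closedPoint k)) (1 : ℤ))
      (Function.locallyFinsuppWithin.single (Q (IsLocalRing.closedPoint k)) (1 : ℤ)) := by
  classical
  let S : X → AlgebraicCycle X ℤ := fun x => Function.locallyFinsuppWithin.single x (1 : ℤ)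
  have hrel : ∀ (i : Fin n) (P₁ P₂ : Spec (CommRingCat.of k) ⟶ C i), P₁ ≫ q i = 𝟙 _ → P₂ ≫ q i = 𝟙 _ →
      S (ι i (P₁ (IsLocalRing.closedPoint k))) - S (ι i (P₂ (IsLocalRing.closedPoint k))) ∈ AlgEqCyc.algTriv p :=
    fun i P₁ P₂ h₁ h₂ => AddSubgroup.subset_closure
      (isElemAlgTriv_graph p (q i) (ι i) (hs i) (hpr i) (hd i) (hq i) P₁ P₂ h₁ h₂)
  obtain ⟨i₀, hi₀⟩ := Set.mem_iUnion.1 hPC
  obtain ⟨P', hP', hP'q⟩ := exists_lift p (q i₀) (ι i₀) (hq i₀) P hP hi₀
  let x₀ : X := ι i₀ (P' (IsLocalRing.closedPoint k))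
  have hx₀ : x₀ = P (IsLocalRing.closedPoint k) := by rw [← hP']; rfl
  let G : Set (Fin n) := {i | ∀ (R : Spec (CommRingCat.of k) ⟶ C i), R ≫ q i = 𝟙 _ →
    S x₀ - S (ι i (R (IsLocalRing.closedPoint k))) ∈ AlgEqCyc.algTriv p}
  have hi₀G : i₀ ∈ G := fun R hR => hrel i₀ P' R hP'q hR
  have hstep : ∀ i j, i ∈ G → (Set.range (ι i) ∩ Set.range (ι j)).Nonempty → j ∈ G := by
    intro i j hi hne R hR
    haveI : LocallyOfFiniteType (q i) := by haveI := hs i; infer_instance
    haveI : JacobsonSpace (C i) := LocallyOfFiniteType.jacobsonSpace (q i)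
    have hT : IsClosed ((ι i) ⁻¹' Set.range (ι j)) :=
      (ι j).isClosedEmbedding.isClosed_range.preimage (ι i).continuous
    have hTne : ((ι i) ⁻¹' Set.range (ι j)).Nonempty := by
      obtain ⟨_, ⟨a, rfl⟩, ha⟩ := hne
      exact ⟨a, ha⟩
    obtain ⟨c, hcT, hcc⟩ := nonempty_inter_closedPoints hTne hT.isLocallyClosed
    let R₁ := pointOfClosedPoint (q i) c (mem_closedPoints_iff.1 hcc)
    have hR₁ : R₁ ≫ q i = 𝟙 _ := pointOfClosedPoint_comp (q i) c _
    have hR₁c : R₁ (IsLocalRing.closedPoint k) = c := pointOfClosedPoint_apply (q i) c _ _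
    obtain ⟨R₂, hR₂, hR₂q⟩ := exists_lift p (q j) (ι j) (hq j) (R₁ ≫ ι i)
      (by rw [Category.assoc, hq, hR₁]) (by rw [Scheme.Hom.comp_apply, hR₁c]; exact hcT)
    have he : ι j (R₂ (IsLocalRing.closedPoint k)) = ι i (R₁ (IsLocalRing.closedPoint k)) := by
      rw [← Scheme.Hom.comp_apply, hR₂, Scheme.Hom.comp_apply]
    have h := add_mem (hi R₁ hR₁) (hrel j R₂ R hR₂q hR)
    rwa [he, sub_add_sub_cancel] at h
  have hall : ∀ i, i ∈ G := by
    intro j
    by_contra hj
    haveI : Nonempty (C j) := inferInstance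
    let A : Set X := ⋃ i ∈ G, Set.range (ι i)
    let B : Set X := ⋃ i ∈ Gᶜ, Set.range (ι i)
    have hA : IsClosed A := (Set.toFinite G).isClosed_biUnion fun i _ => (ι i).isClosedEmbedding.isClosed_range
    have hB : IsClosed B := (Set.toFinite Gᶜ).isClosed_biUnion fun i _ => (ι i).isClosedEmbedding.isClosed_range
    obtain ⟨y, -, hyA, hyB⟩ := isPreconnected_closed_iff.1 hconn.isPreconnected A B hA hB
      (fun y hy => by
        obtain ⟨i, hi⟩ := Set.mem_iUnion.1 hy
        by_cases hg : i ∈ G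
        · exact Or.inl (Set.mem_biUnion hg hi)
        · exact Or.inr (Set.mem_biUnion hg hi))
      ⟨x₀, Set.mem_iUnion.2 ⟨i₀, ⟨_, rfl⟩⟩, Set.mem_biUnion hi₀G ⟨_, rfl⟩⟩
      ⟨ι j (Classical.arbitrary _), Set.mem_iUnion.2 ⟨j, ⟨_, rfl⟩⟩, Set.mem_biUnion hj ⟨_, rfl⟩⟩
    obtain ⟨i, hiG, hyi⟩ := Set.mem_iUnion₂.1 hyA
    obtain ⟨i', hiG', hyi'⟩ := Set.mem_iUnion₂.1 hyB
    exact hiG' (hstep i i' hiG ⟨y, hyi, hyi'⟩)
  obtain ⟨j, hj⟩ := Set.mem_iUnion.1 hQC
  obtain ⟨Q', hQ', hQ'q⟩ := exists_lift p (q j) (ι j) (hq j) Q hQ hj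
  have h := hall j Q' hQ'q
  rw [hx₀, ← Scheme.Hom.comp_apply (Q') (ι j), hQ'] at h
  exact h

end Groth.Agent.AlgEqDiag
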