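import Groth.Prelude.Def_AlgEqCyc

/-!
The diagonal family: differences of rational points of a curve are elementary algebraically trivial.
-/

set_option autoImplicit false
set_option backward.isDefEq.respectTransparency false
set_option backward.isDefEq.respectTransparency.types false
set_option linter.style.haveILetI false

universe u

open CategoryTheory CategoryTheory.Limits AlgebraicGeometry TopologicalSpace

noncomputable section

namespace Groth.Agent.AlgEqDiag

/-- A section meets each fibre with multiplicity one. -/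
theorem fibreMult_section {P C : Scheme.{u}} (g : P ⟶ C) (Δ : C ⟶ P) (hΔ : Δ ≫ g = 𝟙 C) (η c : C) (hηc : η ⤳ c)
    (h : Δ η ⤳ Δ c) : AlgEqCyc.fibreMult g (Δ c) (Δ η) h = 1 := by
  haveI : IsIso (Δ ≫ g) := by rw [hΔ]; infer_instance
  let R := P.presheaf.stalk (Δ c)
  let K : Ideal R := RingHom.ker (Cyc.specMap (Δ c) (Δ η) h)
  let J : Ideal R := (IsLocalRing.maximalIdeal (C.presheaf.stalk (g (Δ c)))).map (g.stalkMap (Δ c)).hom
  have hKker : ∀ r : R, (Δ.stalkMap c).hom r = 0 → r ∈ K := by
    intro r hr
    show P.residue (Δ η) ((P.presheaf.stalkSpecializes h).hom r) = 0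
    refine (IsLocalRing.residue_eq_zero_iff _).2 ((IsLocalRing.mem_maximalIdeal _).2 fun hu => ?_)
    have h1 := Scheme.Hom.stalkSpecializes_stalkMap_apply Δ η c hηc r
    have h2 : IsUnit ((Δ.stalkMap η).hom ((P.presheaf.stalkSpecializes h).hom r)) := hu.map _
    rw [h1] at h2
    exact not_isUnit_zero (M₀ := C.presheaf.stalk η) (by
      have h3 : (C.presheaf.stalkSpecializes hηc).hom ((Δ.stalkMap c).hom r) = 0 := by rw [hr, map_zero]
      exact h3 ▸ h2)
  have hmax : K ⊔ J = IsLocalRing.maximalIdeal R := by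
    refine le_antisymm (sup_le (IsLocalRing.le_maximalIdeal fun e => ?_) (Ideal.map_le_iff_le_comap.2 fun a ha => ?_)) ?_
    · have h1 : (1 : R) ∈ K := e ▸ Submodule.mem_top
      exact one_ne_zero ((map_one (Cyc.specMap (Δ c) (Δ η) h)).symm.trans h1)
    · exact (IsLocalRing.mem_maximalIdeal _).2 fun hu =>
        (IsLocalRing.mem_maximalIdeal _).1 ha ((isUnit_map_iff (g.stalkMap (Δ c)).hom a).1 hu)
    · intro r hr
      obtain ⟨a, ha⟩ := (ConcreteCategory.bijective_of_isIso ((Δ ≫ g).stalkMap c)).2 ((Δ.stalkMap c).hom r)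
      rw [Scheme.Hom.stalkMap_comp] at ha
      have ha' : (Δ.stalkMap c).hom ((g.stalkMap (Δ c)).hom a) = (Δ.stalkMap c).hom r := ha
      have ham : a ∈ IsLocalRing.maximalIdeal (C.presheaf.stalk (g (Δ c))) :=
        (IsLocalRing.mem_maximalIdeal _).2 fun hu => by
          have h2 := (hu.map (g.stalkMap (Δ c)).hom).map (Δ.stalkMap c).hom
          replace h2 := ha'.subst (motive := fun z => IsUnit z) h2
          exact (IsLocalRing.mem_maximalIdeal _).1 hr ((isUnit_map_iff (Δ.stalkMap c).hom r).1 h2)
      rw [show r = (r - (g.stalkMap (Δ c)).hom a) + (g.stalkMap (Δ c)).hom a by ring]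
      exact Submodule.add_mem_sup (hKker _ (by rw [map_sub, ha', sub_self])) (Ideal.mem_map_of_mem _ ham)
  have hlen : Module.length R ((R ⧸ K) ⧸ (IsLocalRing.maximalIdeal (C.presheaf.stalk (g (Δ c)))).map
      ((Ideal.Quotient.mk K).comp (g.stalkMap (Δ c)).hom)) = 1 := by
    rw [← Ideal.map_map]
    show Module.length R ((R ⧸ K) ⧸ J.map (Ideal.Quotient.mkₐ R K)) = 1
    rw [(DoubleQuot.quotQuotEquivQuotSupₐ R K J).toLinearEquiv.length_eq, Module.length_eq_one_iff,
      hmax]
    exact isSimpleModule_iff_isCoatom.2 (IsLocalRing.maximalIdeal.isMaximal R).out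
  exact (congrArg ENat.toNat hlen).trans rfl

variable {k : Type u} [Field k] (C : Scheme.{u}) [DecidableEq ↥C] (q : C ⟶ Spec (CommRingCat.of k))

/-- The diagonal family has the member `[t]` over the rational point `t`. -/
theorem fibreFun_diag [IsSeparated q] [IrreducibleSpace C] [DecidableEq ↥(pullback q q)]
    (t : Spec (CommRingCat.of k) ⟶ C) (ht : t ≫ q = 𝟙 _) (x : C) :
    AlgEqCyc.fibreFun q q
      (Function.locallyFinsuppWithin.single (pullback.diagonal q (genericPoint C)) (1 : ℤ)) t ht x =
      if x = t (IsLocalRing.closedPoint k) then 1 else 0 := by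
  set η := genericPoint C
  have e : t ≫ AlgEqCyc.slice q q t ht = t ≫ pullback.diagonal q := by
    apply pullback.hom_ext
    · simp [AlgEqCyc.slice]
    · simp [AlgEqCyc.slice, reassoc_of% ht]
  set w0 := pullback.diagonal q η
  have hmem : w0 ⤳ AlgEqCyc.slice q q t ht x ↔ x = t (IsLocalRing.closedPoint k) := by
    constructor
    · intro h
      obtain ⟨c, hc⟩ := h.mem_closed (pullback.diagonal q).isClosedEmbedding.isClosed_range ⟨η, rfl⟩
      have h1 : x = c := by
        have := congrArg (pullback.fst q q) hc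
        simp only [← Scheme.Hom.comp_apply, AlgEqCyc.slice, pullback.diagonal_fst, pullback.lift_fst] at this
        simpa using this.symm
      have h2 : c = t (q x) := by
        have := congrArg (pullback.snd q q) hc
        simp only [← Scheme.Hom.comp_apply, AlgEqCyc.slice, pullback.diagonal_snd, pullback.lift_snd] at this
        simpa using this
      rw [h1, h2]
      exact congrArg t (Subsingleton.elim (α := PrimeSpectrum k) _ _)
    · rintro rfl
      have e : t ≫ AlgEqCyc.slice q q t ht = t ≫ pullback.diagonal q := by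
        apply pullback.hom_ext
        · simp [AlgEqCyc.slice]
        · simp [AlgEqCyc.slice, reassoc_of% ht]
      rw [← Scheme.Hom.comp_apply, e, Scheme.Hom.comp_apply]
      exact (genericPoint_specializes _).map (pullback.diagonal q).continuous
  have hzero : ∀ w, (Function.locallyFinsuppWithin.single w0 (1 : ℤ)) w ≠ 0 → w = w0 := fun w hw => by
    by_contra hne
    exact hw (by rw [Function.locallyFinsuppWithin.single_apply, if_neg hne])
  unfold AlgEqCyc.fibreFun
  split_ifs with hx
  · have hv : w0 ⤳ AlgEqCyc.slice q q t ht x := hmem.2 hx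
    rw [finsum_eq_single _ ⟨w0, by rw [Function.locallyFinsuppWithin.single_apply, if_pos rfl]; exact one_ne_zero, hv⟩
      (fun w hw => absurd (Subtype.ext (hzero _ w.2.1)) hw)]
    have hone : (Function.locallyFinsuppWithin.single w0 (1 : ℤ)) w0 = 1 := by
      rw [Function.locallyFinsuppWithin.single_apply, if_pos rfl]
    have hc : AlgEqCyc.slice q q t ht x = pullback.diagonal q x := by
      subst hx
      rw [← Scheme.Hom.comp_apply, ← Scheme.Hom.comp_apply, e]
    have key : ∀ (v : ↥(pullback q q)) (h : w0 ⤳ v), v = pullback.diagonal q x →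
        AlgEqCyc.fibreMult (pullback.snd q q) v w0 h = 1 := by
      rintro v h rfl
      exact fibreMult_section (pullback.snd q q) (pullback.diagonal q) (pullback.diagonal_snd q) η x
        (genericPoint_specializes x) h
    exact (congrArg₂ (· * ·) hone (congrArg (Nat.cast (R := ℤ)) (key _ hv hc))).trans (by simp)
  · haveI : IsEmpty {w : ↥(pullback q q) //
        (Function.locallyFinsuppWithin.single w0 (1 : ℤ)) w ≠ 0 ∧ w ⤳ AlgEqCyc.slice q q t ht x} :=
      ⟨fun w => hx (hmem.1 (hzero _ w.2.1 ▸ w.2.2))⟩
    exact finsum_of_isEmpty _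

/-- Differences of rational points. -/
theorem main (hs : Smooth q) (hp : Neron.IsProjectiveOver k (Over.mk q)) [IsIntegral C] [IsSeparated q]
    (hd : topologicalKrullDim ↥C = 1) (P₁ P₂ : Spec (CommRingCat.of k) ⟶ C) (h₁ : P₁ ≫ q = 𝟙 _)
    (h₂ : P₂ ≫ q = 𝟙 _) :
    AlgEqCyc.IsElemAlgTriv q (Function.locallyFinsuppWithin.single (P₁ (IsLocalRing.closedPoint k)) (1 : ℤ) -
      Function.locallyFinsuppWithin.single (P₂ (IsLocalRing.closedPoint k)) (1 : ℤ)) := by
  classical
  refine ⟨C, q, hs, hp, inferInstance, hd,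
    Function.locallyFinsuppWithin.single (pullback.diagonal q (genericPoint C)) (1 : ℤ), fun w hw => ?_,
    P₁, P₂, h₁, h₂, fun x => ?_⟩
  · have : w = pullback.diagonal q (genericPoint C) := by
      by_contra hne
      exact hw (by rw [Function.locallyFinsuppWithin.single_apply, if_neg hne])
    subst this
    rw [← Scheme.Hom.comp_apply, pullback.diagonal_snd]
    exact genericPoint_closure _
  · rw [fibreFun_diag C q P₁ h₁ x, fibreFun_diag C q P₂ h₂ x]
    show (Function.locallyFinsuppWithin.single (P₁ (IsLocalRing.closedPoint k)) (1 : ℤ)) x -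
      (Function.locallyFinsuppWithin.single (P₂ (IsLocalRing.closedPoint k)) (1 : ℤ)) x = _
    refine congrArg₂ (· - ·) ?_ ?_ <;>
      exact Function.locallyFinsuppWithin.single_apply.trans (if_congr Iff.rfl rfl rfl)

end Groth.Agent.AlgEqDiag
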