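import Groth.Agent.AlgEqDiag.Main

/-!
Families given by the closure of the graph of a morphism defined on an open of the parameter curve.
-/

set_option autoImplicit false
set_option backward.isDefEq.respectTransparency false
set_option backward.isDefEq.respectTransparency.types false
set_option linter.style.haveILetI false

universe u

open CategoryTheory CategoryTheory.Limits AlgebraicGeometry TopologicalSpace

noncomputable section

namespace Groth.Agent.AlgEqDiag

/-- A section over an open meets each fibre with multiplicity one. -/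
theorem fibreMult_openSection {P D C : Scheme.{u}} (g : P ⟶ C) (Δ : D ⟶ P) [IsOpenImmersion (Δ ≫ g)] (η c : D) (hηc : η ⤳ c)
    (h : Δ η ⤳ Δ c) : AlgEqCyc.fibreMult g (Δ c) (Δ η) h = 1 := by
  let R := P.presheaf.stalk (Δ c)
  let K : Ideal R := RingHom.ker (Cyc.specMap (Δ c) (Δ η) h)
  let J : Ideal R := (IsLocalRing.maximalIdeal (C.presheaf.stalk (g (Δ c)))).map (g.stalkMap (Δ c)).hom
  have hKker : ∀ r : R, (Δ.stalkMap c).hom r = 0 → r ∈ K := by
    intro r hr
    show P.residue (Δ η) ((P.presheaf.stalkSpecializes h).hom r) = 0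
    refine (IsLocalRing.residue_eq_zero_iff _).2 ((IsLocalRing.mem_maximalIdeal _).2 fun hu => ?_)
    have h1 := Scheme.Hom.stalkSpecializes_stalkMap_apply Δ η c hηc r
    have h2 : IsUnit ((Δ.stalkMap η).hom ((P.presheaf.stalkSpecializes h).hom r)) := hu.map _
    rw [h1] at h2
    exact not_isUnit_zero (M₀ := D.presheaf.stalk η) (by
      have h3 : (D.presheaf.stalkSpecializes hηc).hom ((Δ.stalkMap c).hom r) = 0 := by rw [hr, map_zero]
      exact h3 ▸ h2)
  have hmax : K ⊔ J = IsLocalRing.maximalIdeal R := by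
    refine le_antisymm (sup_le (IsLocalRing.le_maximalIdeal fun e => ?_) (Ideal.map_le_iff_le_comap.2 fun a ha => ?_)) ?_
    · have h1 : (1 : R) ∈ K := e ▸ Submodule.mem_top
      exact one_ne_zero ((map_one (Cyc.specMap (Δ c) (Δ η) h)).symm.trans h1)
    · exact (IsLocalRing.mem_maximalIdeal _).2 fun hu =>
        (IsLocalRing.mem_maximalIdeal _).1 ha ((isUnit_map_iff (g.stalkMap (Δ c)).hom a).1 hu)
    · intro r hr
      obtain ⟨a, ha⟩ := (ConcreteCategory.bijective_of_isIso ((Δ ≫ g).stalkMap c)).2 ((Δ.stalkMap c).hom r)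
      rw [Scheme.Hom.stalkMap_comp] at ha
      have ha' : (Δ.stalkMap c).hom ((g.stalkMap (Δ c)).hom a) = (Δ.stalkMap c).hom r := ha
      have ham : a ∈ IsLocalRing.maximalIdeal (C.presheaf.stalk (g (Δ c))) :=
        (IsLocalRing.mem_maximalIdeal _).2 fun hu => by
          have h2 := (hu.map (g.stalkMap (Δ c)).hom).map (Δ.stalkMap c).hom
          replace h2 := ha'.subst (motive := fun z => IsUnit z) h2
          exact (IsLocalRing.mem_maximalIdeal _).1 hr ((isUnit_map_iff (Δ.stalkMap c).hom r).1 h2)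
      rw [show r = (r - (g.stalkMap (Δ c)).hom a) + (g.stalkMap (Δ c)).hom a by ring]
      exact Submodule.add_mem_sup (hKker _ (by rw [map_sub, ha', sub_self])) (Ideal.mem_map_of_mem _ ham)
  have hlen : Module.length R ((R ⧸ K) ⧸ (IsLocalRing.maximalIdeal (C.presheaf.stalk (g (Δ c)))).map
      ((Ideal.Quotient.mk K).comp (g.stalkMap (Δ c)).hom)) = 1 := by
    rw [← Ideal.map_map]
    show Module.length R ((R ⧸ K) ⧸ J.map (Ideal.Quotient.mkₐ R K)) = 1
    rw [(DoubleQuot.quotQuotEquivQuotSupₐ R K J).toLinearEquiv.length_eq, Module.length_eq_one_iff,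
      hmax]
    exact isSimpleModule_iff_isCoatom.2 (IsLocalRing.maximalIdeal.isMaximal R).out
  exact (congrArg ENat.toNat hlen).trans rfl

variable {k : Type u} [Field k] {X D C : Scheme.{u}} (p : X ⟶ Spec (CommRingCat.of k))
  (q : C ⟶ Spec (CommRingCat.of k)) (j : D ⟶ C) (f : D ⟶ X) (hf : f ≫ p = j ≫ q)

/-- The graph of `f` over the open `D`. -/
abbrev ograph : D ⟶ pullback p q := pullback.lift f j hf

/-- Membership in the closure of the graph over the open. -/
theorem mem_range_ograph [IsOpenImmersion j] [IsSeparated p] {η : D} {v : ↥(pullback p q)}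
    (h : ograph p q j f hf η ⤳ v) (hv : pullback.snd p q v ∈ Set.range j) :
    ∃ c, ograph p q j f hf c = v := by
  let G : D ⟶ pullback p (j ≫ q) := pullback.lift f (𝟙 D) (by rw [hf, Category.id_comp])
  let m : pullback p (j ≫ q) ⟶ pullback p q := pullback.map p (j ≫ q) p q (𝟙 X) j (𝟙 _) (by simp) (by simp)
  have hsq : IsPullback m (pullback.snd p (j ≫ q)) (pullback.snd p q) j := by
    refine IsPullback.of_right ?_ (by simp [m]) (IsPullback.of_hasPullback p q)
    simpa [m] using IsPullback.of_hasPullback p (j ≫ q)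
  haveI : IsOpenImmersion m := MorphismProperty.of_isPullback (P := @IsOpenImmersion) hsq.flip inferInstance
  haveI : IsSeparated (pullback.snd p (j ≫ q)) := MorphismProperty.pullback_snd _ _ inferInstance
  haveI : IsClosedImmersion (G ≫ pullback.snd p (j ≫ q)) := by rw [pullback.lift_snd]; infer_instance
  haveI : IsClosedImmersion G := IsClosedImmersion.of_comp G (pullback.snd p (j ≫ q))
  have hG : G ≫ m = ograph p q j f hf := by
    apply pullback.hom_ext <;> simp [G, m] <;> exact Category.id_comp _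
  obtain ⟨d, hd⟩ := hv
  obtain ⟨v', hv', -⟩ := Scheme.exists_preimage_of_isPullback hsq v d hd.symm
  rw [← hG, Scheme.Hom.comp_apply, ← hv', m.isOpenEmbedding.isInducing.specializes_iff] at h
  obtain ⟨c, hc⟩ := h.mem_closed G.isClosedEmbedding.isClosed_range ⟨η, rfl⟩
  exact ⟨c, by rw [← hG, Scheme.Hom.comp_apply, hc, hv']⟩

/-- The member over a rational point of the open. -/
theorem fibreFun_ograph [IsOpenImmersion j] [IsSeparated p] [IrreducibleSpace D] [DecidableEq ↥X]
    [DecidableEq ↥(pullback p q)]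
    (t : Spec (CommRingCat.of k) ⟶ D) (ht : (t ≫ j) ≫ q = 𝟙 _) (x : X) :
    AlgEqCyc.fibreFun p q
      (Function.locallyFinsuppWithin.single (ograph p q j f hf (genericPoint D)) (1 : ℤ)) (t ≫ j) ht x =
      if x = f (t (IsLocalRing.closedPoint k)) then 1 else 0 := by
  set η := genericPoint D
  set Γ' := ograph p q j f hf with hΓ
  have hfst : Γ' ≫ pullback.fst p q = f := pullback.lift_fst _ _ _
  have hsnd : Γ' ≫ pullback.snd p q = j := pullback.lift_snd _ _ _
  have hsl : pullback.snd p q (AlgEqCyc.slice p q (t ≫ j) ht x) = j (t (p x)) := by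
    simp only [← Scheme.Hom.comp_apply, AlgEqCyc.slice, pullback.lift_snd, Category.assoc]
  have hrange : ∀ {η' : D}, Γ' η' ⤳ AlgEqCyc.slice p q (t ≫ j) ht x →
      ∃ c, Γ' c = AlgEqCyc.slice p q (t ≫ j) ht x := fun h =>
    mem_range_ograph p q j f hf h ⟨t (p x), hsl.symm⟩
  have hmem : Γ' η ⤳ AlgEqCyc.slice p q (t ≫ j) ht x ↔ x = f (t (IsLocalRing.closedPoint k)) := by
    constructor
    · intro h
      obtain ⟨c, hc⟩ := hrange h
      have h1 : x = f c := by
        have := congrArg (pullback.fst p q) hc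
        simp only [← Scheme.Hom.comp_apply, AlgEqCyc.slice, hfst, pullback.lift_fst] at this
        simpa using this.symm
      have h2 : c = t (p x) := by
        refine j.isOpenEmbedding.injective ?_
        rw [← hsnd, Scheme.Hom.comp_apply, hc, hsl, hsnd]
      rw [h1, h2]
      exact congrArg f (congrArg t (Subsingleton.elim (α := PrimeSpectrum k) _ _))
    · rintro rfl
      have e : (t ≫ f) ≫ AlgEqCyc.slice p q (t ≫ j) ht = t ≫ Γ' := by
        have ht' : t ≫ j ≫ q = 𝟙 _ := by rw [← Category.assoc]; exact ht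
        apply pullback.hom_ext
        · simp [AlgEqCyc.slice, hfst]
        · simp [AlgEqCyc.slice, hsnd, reassoc_of% hf, reassoc_of% ht']
      rw [← Scheme.Hom.comp_apply, ← Scheme.Hom.comp_apply, ← Category.assoc, e, Scheme.Hom.comp_apply]
      exact (genericPoint_specializes _).map Γ'.continuous
  have hzero : ∀ w, (Function.locallyFinsuppWithin.single (Γ' η) (1 : ℤ)) w ≠ 0 → w = Γ' η := fun w hw => by
    by_contra hne
    exact hw (by rw [Function.locallyFinsuppWithin.single_apply, if_neg hne])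
  unfold AlgEqCyc.fibreFun
  split_ifs with hx
  · have hv : Γ' η ⤳ AlgEqCyc.slice p q (t ≫ j) ht x := hmem.2 hx
    rw [finsum_eq_single _ ⟨Γ' η, by rw [Function.locallyFinsuppWithin.single_apply, if_pos rfl]; exact one_ne_zero, hv⟩
      (fun w hw => absurd (Subtype.ext (hzero _ w.2.1)) hw)]
    have hone : (Function.locallyFinsuppWithin.single (Γ' η) (1 : ℤ)) (Γ' η) = 1 := by
      rw [Function.locallyFinsuppWithin.single_apply, if_pos rfl]
    obtain ⟨c, hc⟩ := hrange hv
    have key : ∀ (v : ↥(pullback p q)) (h : Γ' η ⤳ v), v = Γ' c →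
        AlgEqCyc.fibreMult (pullback.snd p q) v (Γ' η) h = 1 := by
      rintro v h rfl
      haveI : IsOpenImmersion (Γ' ≫ pullback.snd p q) := hsnd ▸ inferInstance
      exact fibreMult_openSection (pullback.snd p q) Γ' η c (genericPoint_specializes c) h
    exact (congrArg₂ (· * ·) hone (congrArg (Nat.cast (R := ℤ)) (key _ hv hc.symm))).trans (by simp)
  · haveI : IsEmpty {w : ↥(pullback p q) //
        (Function.locallyFinsuppWithin.single (Γ' η) (1 : ℤ)) w ≠ 0 ∧ w ⤳ AlgEqCyc.slice p q (t ≫ j) ht x} :=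
      ⟨fun w => hx (hmem.1 (hzero _ w.2.1 ▸ w.2.2))⟩
    exact finsum_of_isEmpty _

/-- Two rational points of an open of a smooth projective curve mapped to `X`. -/
theorem isElemAlgTriv_ograph [IsOpenImmersion j] [IsSeparated p] [IsIntegral C] [IsIntegral D] [DecidableEq ↥X]
    (hs : Smooth q) (hp : Neron.IsProjectiveOver k (Over.mk q)) (hd : topologicalKrullDim ↥C = 1)
    (hf : f ≫ p = j ≫ q) (P₁ P₂ : Spec (CommRingCat.of k) ⟶ D) (h₁ : (P₁ ≫ j) ≫ q = 𝟙 _)
    (h₂ : (P₂ ≫ j) ≫ q = 𝟙 _) :
    AlgEqCyc.IsElemAlgTriv p (Function.locallyFinsuppWithin.single (f (P₁ (IsLocalRing.closedPoint k))) (1 : ℤ) -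
      Function.locallyFinsuppWithin.single (f (P₂ (IsLocalRing.closedPoint k))) (1 : ℤ)) := by
  classical
  refine ⟨C, q, hs, hp, inferInstance, hd,
    Function.locallyFinsuppWithin.single (ograph p q j f hf (genericPoint D)) (1 : ℤ), fun w hw => ?_,
    P₁ ≫ j, P₂ ≫ j, h₁, h₂, fun x => ?_⟩
  · have : w = ograph p q j f hf (genericPoint D) := by
      by_contra hne
      exact hw (by rw [Function.locallyFinsuppWithin.single_apply, if_neg hne])
    subst this
    rw [← Scheme.Hom.comp_apply, pullback.lift_snd]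
    rw [show j (genericPoint D) = genericPoint C from genericPoint_eq_of_isOpenImmersion j]
    exact genericPoint_closure _
  · rw [fibreFun_ograph p q j f hf P₁ h₁ x, fibreFun_ograph p q j f hf P₂ h₂ x]
    show (Function.locallyFinsuppWithin.single (f (P₁ (IsLocalRing.closedPoint k))) (1 : ℤ)) x -
      (Function.locallyFinsuppWithin.single (f (P₂ (IsLocalRing.closedPoint k))) (1 : ℤ)) x = _
    refine congrArg₂ (· - ·) ?_ ?_ <;>
      exact Function.locallyFinsuppWithin.single_apply.trans (if_congr Iff.rfl rfl rfl)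

end Groth.Agent.AlgEqDiag
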